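import Mathlib.AlgebraicGeometry.Morphisms.Immersion
import Mathlib.AlgebraicGeometry.Morphisms.ClosedImmersion
import Mathlib.AlgebraicGeometry.PullbackCarrier

universe u

open AlgebraicGeometry CategoryTheory CategoryTheory.Limits TopologicalSpace

namespace GrothLib.RedSub

variable {X Y Z : Scheme.{u}}

/-- An immersion with open range into a reduced scheme is an open immersion. -/
lemma isOpenImmersion_of_isOpen_range (f : X ⟶ Y) [IsImmersion f] [IsReduced Y]
    (h : IsOpen (Set.range f)) : IsOpenImmersion f := by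
  let U : Y.Opens := ⟨Set.range f, h⟩
  have hr : Set.range f ⊆ Set.range U.ι := by rw [Scheme.Opens.range_ι]; exact subset_rfl
  let g : X ⟶ U := IsOpenImmersion.lift U.ι f hr
  have hg : g ≫ U.ι = f := IsOpenImmersion.lift_fac _ _ _
  have : IsImmersion (g ≫ U.ι) := by rw [hg]; infer_instance
  have : IsImmersion g := .of_comp g U.ι
  have hs : Function.Surjective g.base := by
    rintro ⟨y, x, rfl⟩
    refine ⟨x, Subtype.ext ?_⟩
    exact (Scheme.Hom.comp_apply g U.ι x).symm.trans (by rw [hg])
  have : IsClosedImmersion g := .of_isPreimmersion g (by rw [hs.range_eq]; exact isClosed_univ)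
  have : AlgebraicGeometry.Surjective g := ⟨hs⟩
  have := isIso_of_isClosedImmersion_of_surjective g
  rw [← hg]
  infer_instance

/-- A morphism from a reduced scheme factors through an immersion containing its range. -/
lemma exists_lift (f : X ⟶ Y) (j : Z ⟶ Y) [IsReduced X] [IsImmersion j]
    (h : Set.range f ⊆ Set.range j) : ∃ g : X ⟶ Z, g ≫ j = f := by
  have hr : Set.range (pullback.fst f j) = Set.univ := by
    rw [Scheme.Pullback.range_fst]
    exact Set.eq_univ_of_forall fun x ↦ h ⟨x, rfl⟩
  have : IsOpenImmersion (pullback.fst f j) :=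
    isOpenImmersion_of_isOpen_range _ (by rw [hr]; exact isOpen_univ)
  have : AlgebraicGeometry.Surjective (pullback.fst f j) := ⟨fun x ↦ hr.ge (Set.mem_univ x)⟩
  have := isIso_of_isOpenImmersion_of_opensRange_eq_top (pullback.fst f j)
    (TopologicalSpace.Opens.ext hr)
  exact ⟨inv (pullback.fst f j) ≫ pullback.snd f j, by simp [← pullback.condition]⟩

lemma exists_iso_of_range_eq {Z' : Scheme.{u}} (j : Z ⟶ Y) (j' : Z' ⟶ Y) [IsImmersion j]
    [IsImmersion j'] [IsReduced Z] [IsReduced Z'] (h : Set.range j = Set.range j') :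
    ∃ e : Z ≅ Z', e.hom ≫ j' = j := by
  obtain ⟨a, ha⟩ := exists_lift j j' h.le
  obtain ⟨b, hb⟩ := exists_lift j' j h.ge
  exact ⟨⟨a, b, by rw [← cancel_mono j]; simp [hb, ha], by rw [← cancel_mono j']; simp [hb, ha]⟩, ha⟩

lemma isReduced_subscheme_iff (I : X.IdealSheafData) :
    IsReduced I.subscheme ↔ ∀ U : X.affineOpens, (I.ideal U).IsRadical := by
  rw [AlgebraicGeometry.IsReduced.iff_of_openCover (X := I.subscheme) I.subschemeCover.openCover]
  show (∀ U : X.affineOpens, IsReduced (Spec (.of (Γ(X, U) ⧸ I.ideal U)))) ↔ _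
  simp only [affine_isReduced_iff, Ideal.isRadical_iff_quotient_reduced]

lemma isReduced_subscheme_vanishingIdeal (S : Closeds X) :
    IsReduced (Scheme.IdealSheafData.vanishingIdeal S).subscheme := by
  rw [isReduced_subscheme_iff]
  intro U
  rw [Scheme.IdealSheafData.vanishingIdeal_ideal]
  exact PrimeSpectrum.isRadical_vanishingIdeal _

lemma range_subschemeι_vanishingIdeal (S : Closeds X) :
    Set.range (Scheme.IdealSheafData.vanishingIdeal S).subschemeι = (S : Set X) := by
  rw [Scheme.IdealSheafData.range_subschemeι, Scheme.IdealSheafData.coe_support_vanishingIdeal]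

lemma exists_reduced_of_isLocallyClosed (S : Set X) (hS : IsLocallyClosed S) :
    ∃ (Y : Scheme.{u}) (i : Y ⟶ X), IsImmersion i ∧ IsReduced Y ∧ Set.range i = S := by
  let V : X.Opens := ⟨coborder S, hS.isOpen_coborder⟩
  let C : Closeds (V : Scheme.{u}) := ⟨V.ι.base ⁻¹' S, isClosed_preimage_val_coborder⟩
  refine ⟨_, (Scheme.IdealSheafData.vanishingIdeal C).subschemeι ≫ V.ι, inferInstance,
    isReduced_subscheme_vanishingIdeal C, ?_⟩
  rw [Scheme.Hom.comp_base, TopCat.coe_comp, Set.range_comp, range_subschemeι_vanishingIdeal]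
  show V.ι.base '' (V.ι.base ⁻¹' S) = S
  exact Set.image_preimage_eq_of_subset (by rw [Scheme.Opens.range_ι]; exact subset_coborder)

end GrothLib.RedSub
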